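import Mathlib
import Cfsg.Prelude
import Cfsg.Agent.Lib.Transfer.TICent.Config
import Cfsg.Agent.Lib.Grp.AmbivalentSolvable
import Cfsg.Agent.Lib.Grp.FrobeniusTheorem
import Cfsg.Agent.S0201
import Cfsg.Agent.S0205
import Cfsg.Agent.Lib.Transfer.CN.Structure

/-!
Groups whose maximal solvable subgroups have fixed-point-free TI kernels: radical and Sylow 2-subgroups.
-/

set_option autoImplicit false
set_option linter.style.haveILetI false
set_option linter.unusedSectionVars false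

open scoped Pointwise

universe u

namespace Cfsg.Agent.Transfer.MaxSolvTI

open Cfsg.Agent Subgroup

variable {G : Type u} [Group G] [Finite G]

/-- A maximal solvable subgroup. -/
def MaxSolv (M : Subgroup G) : Prop :=
  Group.IsSolvable M ∧ ∀ M' : Subgroup G, M < M' → ¬ Group.IsSolvable M'

/-- The hypothesis on maximal solvable subgroups. -/
def Hyp (F : Subgroup G → Subgroup G) : Prop :=
  ∀ M : Subgroup G, MaxSolv M →
    F M ≤ M ∧ M ≤ Subgroup.normalizer (F M : Set G) ∧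
    (∀ a ∈ M, a ∉ F M → ∀ x ∈ F M, x * a = a * x → x = 1) ∧
    (∀ g : G, g ∉ M → F M ⊓ (MulAut.conj g • F M) = ⊥) ∧
    (F M ≠ ⊥ ∨ IsMulCommutative M)

theorem exists_maxSolv {K : Subgroup G} (hK : Group.IsSolvable K) :
    ∃ M : Subgroup G, K ≤ M ∧ MaxSolv M := by
  obtain ⟨M, hKM, hM⟩ := (Set.toFinite {X : Subgroup G | Group.IsSolvable X}).exists_le_maximal (a := K) hK
  exact ⟨M, hKM, hM.1, fun M' hlt hs => hlt.not_ge (hM.2 hs hlt.le)⟩

theorem MaxSolv.sup_eq {M L : Subgroup G} (hM : MaxSolv M) [L.Normal] (hL : Group.IsSolvable L) : L ≤ M := by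
  by_contra hle
  refine hM.2 (M ⊔ L) (left_lt_sup.2 hle) ?_
  haveI := hM.1
  haveI := hL
  have h1 : ∀ x : G, x ∈ M ⊔ L → ∃ m ∈ M, ∃ l ∈ L, x = m * l := fun x hx => by
    obtain ⟨m, hm, l, hl, rfl⟩ := Subgroup.mem_sup_of_normal_right.1 hx
    exact ⟨m, hm, l, hl, rfl⟩
  let π := QuotientGroup.mk' L
  have hle' : L ≤ M ⊔ L := le_sup_right
  haveI : Group.IsSolvable ((M ⊔ L).map π) := by
    have e : (M ⊔ L).map π = M.map π := by
      rw [Subgroup.map_sup, (Subgroup.map_eq_bot_iff _).2 (QuotientGroup.ker_mk' L).ge, sup_bot_eq]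
    rw [e]
    exact Grp.isSolvable_map hM.1 _
  exact Group.isSolvable_of_ker_le_range (Subgroup.inclusion hle') (π.subgroupMap (M ⊔ L))
    (fun x hx => ⟨⟨x, (QuotientGroup.eq_one_iff (x : G)).mp (congrArg Subtype.val (MonoidHom.mem_ker.mp hx))⟩, rfl⟩)

variable {F : Subgroup G → Subgroup G} (h : Hyp F) (hns : ¬ Group.IsSolvable G)
include h

theorem Hyp.mem_of_ne_bot {M : Subgroup G} (hM : MaxSolv M) {g x : G} (hx : x ∈ F M) (hx1 : x ≠ 1)
    (hg : g * x * g⁻¹ ∈ F M) : g ∈ M := by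
  by_contra hgM
  have := (h M hM).2.2.2.1 g hgM
  have hmem : g * x * g⁻¹ ∈ F M ⊓ (MulAut.conj g • F M) :=
    ⟨hg, (Subgroup.smul_mem_pointwise_smul x (MulAut.conj g) (F M) hx : MulAut.conj g • x ∈ _)⟩
  rw [this, Subgroup.mem_bot] at hmem
  exact hx1 (conj_eq_one_iff.1 hmem)

theorem Hyp.mem_of_commute {M : Subgroup G} (hM : MaxSolv M) {g x : G} (hx : x ∈ F M) (hx1 : x ≠ 1)
    (hg : Commute g x) : g ∈ F M := by
  have hgM : g ∈ M := h.mem_of_ne_bot hM hx hx1 (by rw [hg.eq, mul_inv_cancel_right]; exact hx)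
  by_contra hgF
  exact hx1 ((h M hM).2.2.1 g hgM hgF x hx hg.eq.symm)

include hns

omit h in
theorem MaxSolv.ne_top {M : Subgroup G} (hM : MaxSolv M) : M ≠ ⊤ := fun e => hns (by
  haveI := hM.1
  subst e
  exact Group.isSolvable_of_surjective (f := (⊤ : Subgroup G).subtype) fun x => ⟨⟨x, mem_top x⟩, rfl⟩)

omit h in
/-- A maximal solvable subgroup containing the normaliser of a Sylow 2-subgroup is not abelian. -/
theorem exists_good (S : Sylow 2 G) : ∃ M : Subgroup G, MaxSolv M ∧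
    Subgroup.normalizer ((S : Subgroup G) : Set G) ≤ M ∧ ¬ IsMulCommutative M := by
  haveI := Fact.mk Nat.prime_two
  set N := Subgroup.normalizer ((S : Subgroup G) : Set G)
  let S' := (S : Subgroup G).subgroupOf N
  have hNs : Group.IsSolvable N := by
    haveI : Group.IsSolvable S' := by
      haveI : Group.IsNilpotent S' := (S.isPGroup'.comap_of_injective N.subtype N.subtype_injective).isNilpotent
      infer_instance
    haveI : Group.IsSolvable (N ⧸ S') := S0205.result (by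
      rw [← Subgroup.index_eq_card, Nat.odd_iff, ← Nat.two_dvd_ne_zero]
      exact S.not_dvd_index ∘ fun h2 => h2.trans (Subgroup.relIndex_dvd_index_of_le le_normalizer))
    exact Group.isSolvable_of_ker_le_range S'.subtype (QuotientGroup.mk' S')
      (by rw [QuotientGroup.ker_mk', Subgroup.range_subtype])
  obtain ⟨M, hle, hM⟩ := exists_maxSolv hNs
  refine ⟨M, hM, hle, fun hab => hns ?_⟩
  have hcent : Subgroup.normalizer ((S : Subgroup G) : Set G) ≤ Subgroup.centralizer ((S : Subgroup G) : Set G) := by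
    intro n hn
    rw [Subgroup.mem_centralizer_iff]
    intro s hs
    exact congrArg Subtype.val (hab.is_comm.comm ⟨s, hle (le_normalizer hs)⟩ ⟨n, hle hn⟩)
  set K := (MonoidHom.transferSylow S hcent).ker
  haveI : Group.IsSolvable K := S0205.result (by
    rw [Nat.odd_iff, ← Nat.two_dvd_ne_zero]
    exact MonoidHom.not_dvd_card_ker_transferSylow S hcent)
  haveI : Group.IsNilpotent (S : Subgroup G) := S.isPGroup'.isNilpotent
  exact Group.isSolvable_of_ker_le_range K.subtype (MonoidHom.transferSylow S hcent)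
    (by rw [Subgroup.range_subtype])

/-- There is no nontrivial normal solvable subgroup. -/
theorem Hyp.radical_eq_bot (N : Subgroup G) [N.Normal] (hN : Group.IsSolvable N) : N = ⊥ := by
  by_contra hne
  obtain ⟨L, hLn, hL1, hLN, hLmin⟩ := Grp.exists_minimal_normal_le hne
  haveI := hLn
  have hLs : Group.IsSolvable L := Grp.isSolvable_of_le hLN hN
  obtain ⟨hLab, -⟩ := Grp.minimal_normal_solvable hLs hL1 hLmin
  obtain ⟨S⟩ : Nonempty (Sylow 2 G) := inferInstance
  obtain ⟨M, hM, -, hMab⟩ := exists_good hns S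
  have hLM : L ≤ M := hM.sup_eq hLs
  obtain ⟨hFM, hMF, hfpf, -, hF⟩ := h M hM
  have hF1 : F M ≠ ⊥ := hF.resolve_right hMab
  have hLF : L ≤ F M := by
    by_contra hc
    obtain ⟨l, hl, hlF⟩ := SetLike.not_le_iff_exists.1 hc
    obtain ⟨f, hf, hf1⟩ := (F M).bot_or_exists_ne_one.resolve_left hF1
    -- the commutator of `l` and `f` lies in both subgroups
    set c := l * f * l⁻¹ * f⁻¹
    have hcL : c ∈ L := by
      have : c = l * (f * l⁻¹ * f⁻¹) := by simp [c, mul_assoc]
      rw [this]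
      exact mul_mem hl (hLn.conj_mem _ (inv_mem hl) f)
    have hcF : c ∈ F M := mul_mem ((Subgroup.mem_normalizer_iff.1 (hMF (hLM hl)) f).1 hf) (inv_mem hf)
    by_cases hc1 : c = 1
    · exact hf1 (hfpf l (hLM hl) hlF f hf (by
        rw [mul_inv_eq_one, mul_inv_eq_iff_eq_mul] at hc1
        exact hc1.symm))
    · exact hc1 (hfpf l (hLM hl) hlF c hcF (congrArg Subtype.val (hLab.is_comm.comm ⟨c, hcL⟩ ⟨l, hl⟩)))
  obtain ⟨l, hl, hl1⟩ := L.bot_or_exists_ne_one.resolve_left hL1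
  exact hM.ne_top hns (eq_top_iff.2 fun g _ => h.mem_of_ne_bot hM (hLF hl) hl1 (hLF (hLn.conj_mem l hl g)))

/-- The structure at a maximal solvable subgroup containing a Sylow 2-normaliser. -/
theorem Hyp.exists_kernel : ∃ (S : Sylow 2 G) (M : Subgroup G), MaxSolv M ∧
    Subgroup.normalizer ((S : Subgroup G) : Set G) ≤ M ∧ (S : Subgroup G) ≤ F M ∧
    Group.IsNilpotent (F M) ∧ F M ≠ M := by
  classical
  haveI := Fact.mk Nat.prime_two
  obtain ⟨S⟩ : Nonempty (Sylow 2 G) := inferInstance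
  obtain ⟨M, hM, hNM, hMab⟩ := exists_good hns S
  obtain ⟨hFM, hMF, hfpf, -, hF⟩ := h M hM
  have hF1 : F M ≠ ⊥ := hF.resolve_right hMab
  have hSM : (S : Subgroup G) ≤ M := le_normalizer.trans hNM
  have hG2 : 2 ∣ Nat.card G := by
    by_contra h2
    exact hns (S0205.result (Nat.odd_iff.2 (Nat.two_dvd_ne_zero.1 h2)))
  have hS1 : (S : Subgroup G) ≠ ⊥ := S.ne_bot_of_dvd_card hG2
  -- two involutions of `M` never lie outside `F` at the same time
  have huniq : ∀ H : Subgroup G, H ≤ M → (∀ x ∈ H, x ∈ F M → x = 1) → ∀ u v : G, u ∈ H → v ∈ H →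
      orderOf u = 2 → orderOf v = 2 → u = v := by
    intro H hH hdis u v hu hv hu2 hv2
    have hinv : ∀ w : G, w ∈ H → orderOf w = 2 → ∀ f ∈ F M, w * f * w⁻¹ = f⁻¹ := by
      intro w hw hw2 f hf
      have hwF : w ∉ F M := fun hh => Invol.ne_one_of_orderOf_two hw2 (hdis w hw hh)
      let φ : F M → F M := fun x => ⟨(x : G)⁻¹ * (w * x * w⁻¹),
        mul_mem (inv_mem x.2) ((Subgroup.mem_normalizer_iff.1 (hMF (hH hw)) x).1 x.2)⟩
      have hφ : Function.Injective φ := by
        intro x y e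
        have e' : (x : G)⁻¹ * (w * x * w⁻¹) = (y : G)⁻¹ * (w * y * w⁻¹) := congrArg Subtype.val e
        apply Subtype.ext
        refine (mul_inv_eq_one.mp (hfpf w (hH hw) hwF _ (mul_mem y.2 (inv_mem x.2)) ?_)).symm
        calc (y : G) * (x : G)⁻¹ * w = (y : G) * ((x : G)⁻¹ * (w * x * w⁻¹)) * (w * (x : G)⁻¹) := by group
          _ = (y : G) * ((y : G)⁻¹ * (w * y * w⁻¹)) * (w * (x : G)⁻¹) := by rw [e']
          _ = w * ((y : G) * (x : G)⁻¹) := by group
      obtain ⟨x, hx⟩ := (Finite.injective_iff_surjective.mp hφ) ⟨f, hf⟩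
      have hx' : (x : G)⁻¹ * (w * x * w⁻¹) = f := congrArg Subtype.val hx
      rw [← hx']
      have hww : w * w = 1 := Invol.mul_self_of_orderOf_two hw2
      calc w * ((x : G)⁻¹ * (w * x * w⁻¹)) * w⁻¹ = w * (x : G)⁻¹ * (w * x) * (w * w)⁻¹ := by group
        _ = w * (x : G)⁻¹ * (w * x) := by rw [hww, inv_one, mul_one]
        _ = ((x : G)⁻¹ * (w * x * w⁻¹))⁻¹ := by
          simp only [mul_inv_rev, inv_inv, Invol.inv_of_orderOf_two hw2, mul_assoc]
    obtain ⟨f, hf, hf1⟩ := (F M).bot_or_exists_ne_one.resolve_left hF1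
    have hvu : v⁻¹ * u ∈ H := mul_mem (inv_mem hv) hu
    have hc : Commute (v⁻¹ * u) f := by
      have h1 := hinv u hu hu2 f hf
      have h2 := hinv v hv hv2 f hf
      refine mul_inv_eq_iff_eq_mul.1 ?_
      calc v⁻¹ * u * f * (v⁻¹ * u)⁻¹ = v⁻¹ * (u * f * u⁻¹) * v := by group
        _ = v⁻¹ * (v * f * v⁻¹) * v := by rw [h1, h2]
        _ = f := by group
    exact (inv_mul_eq_one.1 (hdis _ hvu (h.mem_of_commute hM hf hf1 hc))).symm
  -- `S` meets `F`
  have hSF : ∃ z ∈ (S : Subgroup G), z ∈ F M ∧ z ≠ 1 := by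
    by_contra hc
    push Not at hc
    have hu : ∀ a b : (S : Subgroup G), orderOf a = 2 → orderOf b = 2 → a = b := fun a b ha hb =>
      Subtype.ext (huniq _ hSM hc a b a.2 b.2 (by rwa [orderOf_coe]) (by rwa [orderOf_coe]))
    rcases Grp.Ambivalent.cyclic_or_quaternion S.isPGroup' hu with hcy | ⟨n, ⟨e⟩⟩
    · have hmin : (Nat.card G).minFac = 2 := (Nat.minFac_eq_two_iff _).mpr hG2
      set hcent := IsCyclic.normalizer_le_centralizer hmin hcy
      haveI : Group.IsSolvable (MonoidHom.transferSylow S hcent).ker := S0205.result (by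
        rw [Nat.odd_iff, ← Nat.two_dvd_ne_zero]
        exact MonoidHom.not_dvd_card_ker_transferSylow S hcent)
      haveI : Group.IsNilpotent (S : Subgroup G) := S.isPGroup'.isNilpotent
      exact hns (Group.isSolvable_of_ker_le_range (MonoidHom.transferSylow S hcent).ker.subtype
        (MonoidHom.transferSylow S hcent) (by rw [Subgroup.range_subtype]))
    · have hc2 := S0201.result S n e fun N hN ho => by
        haveI := hN
        exact h.radical_eq_bot hns N (S0205.result ho)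
      have : Subgroup.center G = ⊥ := h.radical_eq_bot hns _ (Group.isSolvable_of_comm fun a b =>
        Subtype.ext (Subgroup.mem_center_iff.1 b.2 a))
      rw [this, Subgroup.card_bot] at hc2
      omega
  obtain ⟨z0, hz0S, hz0F, hz01⟩ := hSF
  -- a central element of `S` in `F`
  have hSF' : (S : Subgroup G) ≤ F M := by
    obtain ⟨z, hz, hz1, hzc⟩ := CN.exists_center_mem (S.isPGroup'.isNilpotent) (M := F M ⊓ (S : Subgroup G))
      inf_le_right (fun s hs => mem_normalizer_fintype fun x hx =>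
        ⟨(Subgroup.mem_normalizer_iff.1 (hMF (hSM hs)) x).1 hx.1,
          (S : Subgroup G).mul_mem ((S : Subgroup G).mul_mem hs hx.2) (inv_mem hs)⟩)
      (fun e => hz01 (Subgroup.mem_bot.1 (e ▸ ⟨hz0F, hz0S⟩ : z0 ∈ (⊥ : Subgroup G))))
    have hzN : z ∈ F M := hz.1
    intro s hs
    exact h.mem_of_commute hM hzN hz1 (hzc s hs).symm
  -- `F ≠ M`
  have hne : F M ≠ M := by
    intro e
    have hC : Cfsg.IsFrobeniusComplement M := ⟨fun hb => hF1 (le_bot_iff.1 (hb ▸ hFM)), hM.ne_top hns,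
      fun g hg => by have := (h M hM).2.2.2.1 g hg; rwa [e] at this⟩
    haveI := Fintype.ofFinite G
    obtain ⟨K, -, hKn, hKM, hKnil⟩ := Grp.frobenius_kernel_spec hC
    haveI := hKn
    haveI := hKnil
    have : K = ⊥ := h.radical_eq_bot hns K inferInstance
    subst this
    exact hM.ne_top hns (Subgroup.isComplement'_bot_left.1 hKM)
  refine ⟨S, M, hM, hNM, hSF', ?_, hne⟩
  obtain ⟨m, hm, hmF⟩ := SetLike.not_le_iff_exists.1 fun hle => hne (le_antisymm hFM hle)
  -- a power of `m` of prime order modulo `F`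
  haveI hnormal : ((F M).subgroupOf M).Normal := (Subgroup.normal_subgroupOf_iff hFM).2
    fun x g hx hg => (Subgroup.mem_normalizer_iff.1 (hMF hg) x).1 hx
  obtain ⟨p, hp, hpd⟩ := Nat.exists_prime_and_dvd (n := orderOf m) fun h1 =>
    hmF (orderOf_eq_one_iff.1 h1 ▸ one_mem _)
  have hex : ∃ b ∈ M, b ∉ F M ∧ ∃ q : ℕ, q.Prime ∧ b ^ q ∈ F M := by
    obtain ⟨q, hq, hqd⟩ := Nat.exists_prime_and_dvd
      (n := orderOf ((⟨m, hm⟩ : M) : M ⧸ (F M).subgroupOf M)) fun h1 =>
        hmF ((QuotientGroup.eq_one_iff (⟨m, hm⟩ : M)).1 (orderOf_eq_one_iff.1 h1))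
    set o := orderOf ((⟨m, hm⟩ : M) : M ⧸ (F M).subgroupOf M)
    refine ⟨m ^ (o / q), pow_mem hm _, fun hh => ?_, q, hq, ?_⟩
    · have h1 : (((⟨m, hm⟩ : M) : M ⧸ (F M).subgroupOf M)) ^ (o / q) = 1 := by
        rw [← QuotientGroup.mk_pow]; exact (QuotientGroup.eq_one_iff _).2 hh
      have := Nat.le_of_dvd (Nat.div_pos (Nat.le_of_dvd (orderOf_pos _) hqd) hq.pos) (orderOf_dvd_of_pow_eq_one h1)
      exact absurd this (not_le.2 (Nat.div_lt_self (orderOf_pos _) hq.one_lt))
    · rw [← pow_mul, Nat.div_mul_cancel hqd]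
      have h1 := pow_orderOf_eq_one (((⟨m, hm⟩ : M) : M ⧸ (F M).subgroupOf M))
      rw [← QuotientGroup.mk_pow] at h1
      exact (QuotientGroup.eq_one_iff ((⟨m, hm⟩ : M) ^ o)).1 h1
  obtain ⟨b, hb, hbF, q, hq, hbq⟩ := hex
  haveI := Fact.mk hq
  have hbq1 : b ^ q = 1 := by
    by_contra hne1
    exact hne1 (hfpf b hb hbF _ hbq (Commute.pow_self b q).eq)
  refine Grp.isNilpotent_of_fpf (p := q) hbq1 (hMF hb) ((Subgroup.eq_bot_iff_forall _).2 ?_)
  rintro x ⟨hx, hxc⟩
  exact hfpf b hb hbF x hx (Subgroup.mem_centralizer_singleton_iff.1 hxc)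

end Cfsg.Agent.Transfer.MaxSolvTI
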