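import Mathlib
import Cfsg.Agent.Lib.Transfer.MaxSolvTI.Basic
import Cfsg.Agent.Lib.Grp.SuzIdent.Main
import Cfsg.Agent.Lib.Grp.SuzIdent.CIT
import Cfsg.Agent.Lib.Fus.CTSimpleLinear

/-!
Nonsolvable groups whose maximal solvable subgroups have fixed-point-free TI kernels are
`SL(2, 2^n)` or Suzuki groups.
-/

set_option autoImplicit false
set_option linter.style.haveILetI false

open scoped Pointwise

universe u v

namespace Cfsg.Agent.Transfer.MaxSolvTI

open Cfsg.Agent Subgroup MulAction Cfsg.Agent.Block.Zas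

/-- A simple Zassenhaus group with a kernel of even order and a two-point stabiliser of odd order. -/
theorem zassenhaus_char_two {G : Type u} {Ω : Type v} [Group G] [Finite G] [MulAction G Ω] [IsSimpleGroup G]
    (hZ : Cfsg.IsZassenhausGroup G Ω) (D : Frame G Ω) (hF : Even (Nat.card D.F)) (hH' : Odd (Nat.card D.H)) :
    (∃ (K : Type) (_ : Field K) (_ : Fintype K), (∃ n : ℕ, 2 ≤ n ∧ Fintype.card K = 2 ^ n) ∧
      Nonempty (G ≃* Matrix.SpecialLinearGroup (Fin 2) K)) ∨ Cfsg.Lie.IsoSuzuki G := by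
  classical
  haveI := D.finite_points
  have hn := D.two_le_F hZ
  have hH := D.H_ne_bot hZ
  obtain ⟨-, hs⟩ := Grp.ZasS.swaps D hn hH
  rcases Grp.ZasS.feit_inequality _ G Ω D rfl hZ hH' with h | ⟨h2, ⟨u, hu, v, hv, huv⟩, -⟩
  · left
    obtain ⟨t, ht⟩ := D.card_H_dvd
    obtain ⟨r, hr⟩ := hF
    obtain ⟨j, hj⟩ := hH'
    have hH2 : 2 ≤ Nat.card D.H := by
      have := (Subgroup.one_lt_card_iff_ne_bot _).2 hH; omega
    have hd0 : 0 < Nat.card D.H := Nat.card_pos
    have ht2 : t ≤ 2 := by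
      by_contra hc
      have : Nat.card D.H * 3 ≤ Nat.card D.H * t := Nat.mul_le_mul_left _ (by omega)
      omega
    have hh : Nat.card D.H = Nat.card D.F - 1 := by interval_cases t <;> omega
    obtain ⟨s, hsa, hsb⟩ := D.two D.hab D.b_ne
    obtain ⟨hs2, hinv⟩ := hs s hsa hsb
    obtain ⟨K, i1, i2, hK, ⟨e⟩⟩ := D.iso_pgl_of_inverted hn hH hh hs2 hsa hsb hinv
    have hKe : Even (Fintype.card K) := ⟨r, by omega⟩
    obtain ⟨e'⟩ := Grp.ZasS.pgl_psl_two (K := K) hKe
    have h2 : (2 : K) = 0 := by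
      obtain ⟨p, n, hpp, hcard⟩ := FiniteField.card' K
      have hp : ringChar K = 2 := by
        by_contra hne
        exact Nat.not_even_iff_odd.2 (Nat.odd_iff.2 (FiniteField.odd_card_of_char_ne_two hne)) hKe
      haveI := ringChar.of_eq hp
      exact CharTwo.two_eq_zero
    haveI : CharP K 2 := CharTwo.of_one_ne_zero_of_two_eq_zero one_ne_zero h2
    obtain ⟨n, -, hn'⟩ := FiniteField.card K 2
    refine ⟨K, i1, i2, ⟨n, ?_, hn'⟩, ⟨(e.trans e').trans
      ((QuotientGroup.quotientMulEquivOfEq (Fus.CTSimple.center_eq_bot_of_two h2)).trans QuotientGroup.quotientBot)⟩⟩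
    by_contra hlt
    have : (2 : ℕ) ^ (n : ℕ) ≤ 2 ^ 1 := Nat.pow_le_pow_right (by norm_num) (by omega)
    omega
  · exact Or.inr (Grp.SuzIdent.isoSuzuki_of_nonabelian D hn hH h2
      ⟨⟨u, hu⟩, ⟨v, hv⟩, fun e => huv (congrArg Subtype.val e)⟩)

variable {G : Type u} [Group G] [Finite G]

open Cfsg.Agent.Fus.CTSimple (A M mem_A A_le_M)
open TICent (Cfg)

theorem Hyp.classify {F : Subgroup G → Subgroup G} (h : Hyp F) (hns : ¬ Group.IsSolvable G) :
    (∃ (K : Type) (_ : Field K) (_ : Fintype K), (∃ n : ℕ, 2 ≤ n ∧ Fintype.card K = 2 ^ n) ∧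
      Nonempty (G ≃* Matrix.SpecialLinearGroup (Fin 2) K)) ∨ Cfsg.Lie.IsoSuzuki G := by
  classical
  haveI := Fact.mk Nat.prime_two
  obtain ⟨S, L, hL, hNL, hSF, hnil, hne⟩ := h.exists_kernel hns
  obtain ⟨hFL, hLF, hfpf, -, -⟩ := h L hL
  set F0 := F L with hF0
  have hL_ne := hL.ne_top hns
  have hS1 : (S : Subgroup G) ≠ ⊥ := S.ne_bot_of_dvd_card (by
    by_contra h2
    exact hns (S0205.result (Nat.odd_iff.2 (Nat.two_dvd_ne_zero.1 h2))))
  have hFS : ∀ a ∈ F0, a ∈ normalizer ((S : Subgroup G) : Set G) := by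
    intro a ha
    haveI := hnil
    haveI hn : ((S.subtype hSF : Sylow 2 F0) : Subgroup F0).Normal := inferInstance
    rw [Sylow.coe_subtype] at hn
    exact mem_normalizer_fintype fun x hx => hn.conj_mem ⟨x, hSF hx⟩ hx ⟨a, ha⟩
  have two_mem : ∀ y ∈ normalizer ((S : Subgroup G) : Set G), IsPGroup 2 (zpowers y) → y ∈ (S : Subgroup G) := by
    intro y hy hy2
    have h1 := hy2.to_sup_of_normal_right' S.isPGroup' (zpowers_le.mpr hy)
    exact (S.is_maximal' h1 le_sup_right).le (mem_sup_left (mem_zpowers y))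
  have hLS : L ≤ normalizer ((S : Subgroup G) : Set G) := by
    intro m hm
    refine mem_normalizer_fintype fun x hx => ?_
    refine two_mem _ (hFS _ ((mem_normalizer_iff.1 (hLF hm) x).1 (hSF hx))) ?_
    have h1 := (S.isPGroup'.to_le (zpowers_le.mpr hx)).map (MulAut.conj m).toMonoidHom
    rwa [MonoidHom.map_zpowers] at h1
  have inv_mem_L : ∀ i ∈ L, orderOf i = 2 → i ∈ F0 := fun i hi hi2 =>
    hSF (two_mem i (hLS hi) (IsPGroup.of_card (n := 1) (by rw [Nat.card_zpowers, hi2, pow_one])))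
  obtain ⟨w, hwS, hw1, hwc⟩ := CN.exists_center_mem hnil hSF (fun a ha => hFS a ha) hS1
  obtain ⟨t, htw, ht⟩ := CIT.exists_involution_mem (S.isPGroup'.to_le (zpowers_le.2 hwS))
    (fun e => hw1 (zpowers_eq_bot.1 e))
  obtain ⟨k, rfl⟩ := mem_zpowers_iff.1 htw
  set t := w ^ k with htdef
  have ht1 := Invol.ne_one_of_orderOf_two ht
  have htS : t ∈ (S : Subgroup G) := zpow_mem hwS k
  have htc : ∀ a ∈ F0, Commute a t := fun a ha => ((hwc a ha).zpow_left k).symm
  have hA : A t = F0 := le_antisymm (fun a ha => h.mem_of_commute hL (hSF htS) ht1 (mem_A.1 ha))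
    fun a ha => mem_A.2 (htc a ha)
  have hNF : normalizer (F0 : Set G) = L := le_antisymm (fun g hg => h.mem_of_ne_bot hL (hSF htS) ht1
    ((mem_normalizer_iff.1 hg t).1 (hSF htS))) hLF
  have hM : M t = L := by
    show normalizer (A t : Set G) = L
    rw [hA, hNF]
  have htL : t ∈ L := hFL (hSF htS)
  have hLeven : Even (Nat.card L) := by
    rw [even_iff_two_dvd, ← ht, ← orderOf_mk t htL]; exact orderOf_dvd_natCard _
  have hSE' : ∀ i ∈ L, orderOf i = 2 → ∀ g : G, g⁻¹ * i * g ∈ L → g ∈ L := by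
    intro i hi hi2 g hg
    have h2 : orderOf (g⁻¹ * i * g) = 2 := by
      rw [← hi2, ← Invol.orderOf_conj_eq g⁻¹ i, inv_inv]
    refine inv_mem_iff.1 (h.mem_of_ne_bot hL (inv_mem_L i hi hi2) (Invol.ne_one_of_orderOf_two hi2) ?_)
    rw [inv_inv]
    exact inv_mem_L _ hg h2
  have hSE : Cfsg.IsStronglyEmbedded L := (Invol.isStronglyEmbedded_iff hL_ne hLeven).2 hSE'
  have hconj : ∀ i : G, orderOf i = 2 → IsConj t i := fun i hi => Invol.isConj_involutions hSE ht hi
  have c : Cfg t S := by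
    refine ⟨ht, hA ▸ hSF, hA ▸ hnil, ?_, ?_, ?_, hM ▸ hL_ne, ?_⟩
    · intro g a ha ha1 hg
      rw [hA] at ha hg
      rw [hM]
      exact h.mem_of_ne_bot hL ha ha1 hg
    · intro a x ha ha1 hxa
      rw [hA] at ha ⊢
      exact h.mem_of_commute hL ha ha1 hxa
    · intro i hi hi2 x hx
      rw [hA] at hi hx
      obtain ⟨g, hg⟩ := isConj_iff.1 (hconj i hi2)
      have hgL : g ∈ L := h.mem_of_ne_bot hL (hSF htS) ht1 (hg ▸ hi)
      have hx' : g⁻¹ * x * g ∈ F0 := by
        have := (mem_normalizer_iff.1 (hLF (inv_mem hgL)) x).1 hx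
        rwa [inv_inv] at this
      have h1 := (htc _ hx').map (MulAut.conj g)
      rw [← hg]
      simpa [mul_assoc] using h1
    · rw [hA, hM, show 1 = ((⊤ : Subgroup L)).index from index_top.symm]
      refine index_strictAnti (lt_top_iff_ne_top.2 fun e => hne ?_)
      exact le_antisymm hFL (subgroupOf_eq_top.1 e)
  have hZ := c.zassenhaus
  haveI : Nontrivial G := ⟨⟨t, 1, ht1⟩⟩
  haveI : IsSimpleGroup G := by
    refine ⟨fun N hN => ?_⟩
    by_contra hcon
    push Not at hcon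
    obtain ⟨hN1, hNtop⟩ := hcon
    apply hNtop
    haveI := hN
    have hNs : ¬ Group.IsSolvable N := fun hs => hN1 (h.radical_eq_bot hns N hs)
    have hN2 : 2 ∣ Nat.card N := by
      by_contra h2
      exact hNs (S0205.result (Nat.odd_iff.2 (Nat.two_dvd_ne_zero.1 h2)))
    obtain ⟨i, hi⟩ := exists_prime_orderOf_dvd_card' (G := N) 2 hN2
    rw [← orderOf_coe] at hi
    have hall : ∀ j : G, orderOf j = 2 → j ∈ N := fun j hj => by
      obtain ⟨g, hg⟩ := isConj_iff.1 ((hconj _ hi).symm.trans (hconj j hj))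
      exact hg ▸ hN.conj_mem _ i.2 g
    have htN : t ∈ N := hall t ht
    have hNL : ¬ N ≤ L := fun hle => hNs (Grp.isSolvable_of_le hle hL.1)
    obtain ⟨n0, hn0, hn0L⟩ := SetLike.not_le_iff_exists.1 hNL
    -- `N` is transitive on the conjugates
    have htr : ∀ g : G, ∃ n ∈ N, n⁻¹ * g ∈ L := by
      intro g
      by_cases hg : g ∈ L
      · exact ⟨1, one_mem _, by rwa [inv_one, one_mul]⟩
      obtain ⟨a, ha, hay⟩ := c.A_trans (y := (n0 : G ⧸ M t)) (z := (g : G ⧸ M t))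
        (fun e => hn0L (by
          have := QuotientGroup.eq.1 e; rw [mul_one] at this
          rw [← hM]; exact inv_mem_iff.1 this))
        (fun e => hg (by
          have := QuotientGroup.eq.1 e; rw [mul_one] at this
          rw [← hM]; exact inv_mem_iff.1 this))
      refine ⟨a * n0 * a⁻¹, hN.conj_mem _ hn0 a, ?_⟩
      have h1 : ((a * n0 : G) : G ⧸ M t) = (g : G ⧸ M t) := hay
      have h2 := QuotientGroup.eq.1 h1
      rw [hM] at h2
      have haL : a ∈ L := hFL (hA ▸ ha)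
      have h3 := mul_mem haL h2
      rwa [show (a * n0 * a⁻¹)⁻¹ * g = a * ((a * n0)⁻¹ * g) by group]
    -- involutions are conjugate inside `N`
    have hSEN : Cfsg.IsStronglyEmbedded (L.subgroupOf N) := by
      refine (Invol.isStronglyEmbedded_iff (fun e => hNL (subgroupOf_eq_top.1 e)) ?_).2 ?_
      · rw [even_iff_two_dvd, ← ht, ← orderOf_mk t htN, ← orderOf_mk (⟨t, htN⟩ : N) (show _ ∈ L.subgroupOf N from htL)]
        exact orderOf_dvd_natCard _
      · intro i hi hi2 g hg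
        exact hSE' i hi (by rwa [orderOf_coe]) g hg
    have hcov : ∀ m ∈ L, ∃ n ∈ N, n ∈ L ∧ n⁻¹ * m ∈ F0 := by
      intro m hm
      have h2 : orderOf (m * t * m⁻¹) = 2 := by rw [Invol.orderOf_conj_eq, ht]
      obtain ⟨n, hn⟩ := isConj_iff.1 (Invol.isConj_involutions hSEN (a := (⟨t, htN⟩ : N))
        (b := ⟨m * t * m⁻¹, hN.conj_mem t htN m⟩) (by rwa [← orderOf_coe]) (by rwa [← orderOf_coe]))
      have hn' : (n : G) * t * (n : G)⁻¹ = m * t * m⁻¹ := congrArg Subtype.val hn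
      refine ⟨n, n.2, h.mem_of_ne_bot hL (hSF htS) ht1 (hn' ▸ (mem_normalizer_iff.1 (hLF hm) t).1 (hSF htS)),
        h.mem_of_commute hL (hSF htS) ht1 (mul_inv_eq_iff_eq_mul.1 ?_)⟩
      calc (n : G)⁻¹ * m * t * ((n : G)⁻¹ * m)⁻¹ = (n : G)⁻¹ * (m * t * m⁻¹) * n := by group
        _ = t := by rw [← hn']; group
    obtain ⟨b, hbN, hbL, hbF⟩ : ∃ b ∈ N, b ∈ L ∧ b ∉ F0 := by
      by_contra hc
      push Not at hc
      refine hne (le_antisymm hFL fun m hm => ?_)
      obtain ⟨n, hn, hnL, hnm⟩ := hcov m hm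
      simpa using mul_mem (hc n hn hnL) hnm
    have hFN : F0 ≤ N := by
      let φ : F0 → F0 := fun x => ⟨(x : G)⁻¹ * (b * x * b⁻¹),
        mul_mem (inv_mem x.2) ((mem_normalizer_iff.1 (hLF hbL) x).1 x.2)⟩
      have hφ : Function.Injective φ := by
        intro x y e
        have e' : (x : G)⁻¹ * (b * x * b⁻¹) = (y : G)⁻¹ * (b * y * b⁻¹) := congrArg Subtype.val e
        apply Subtype.ext
        refine (mul_inv_eq_one.mp (hfpf b hbL hbF _ (mul_mem y.2 (inv_mem x.2)) ?_)).symm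
        calc (y : G) * (x : G)⁻¹ * b = (y : G) * ((x : G)⁻¹ * (b * x * b⁻¹)) * (b * (x : G)⁻¹) := by group
          _ = (y : G) * ((y : G)⁻¹ * (b * y * b⁻¹)) * (b * (x : G)⁻¹) := by rw [e']
          _ = b * ((y : G) * (x : G)⁻¹) := by group
      have hmemN : ∀ x : F0, (φ x : G) ∈ N := fun x => by
        have : (x : G)⁻¹ * (b * x * b⁻¹) = ((x : G)⁻¹ * b * x) * b⁻¹ := by group
        show (x : G)⁻¹ * (b * x * b⁻¹) ∈ N
        rw [this]
        exact mul_mem (by simpa using hN.conj_mem b hbN (x : G)⁻¹) (inv_mem hbN)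
      let ψ : {x : F0 // (x : G) ∈ N} → {x : F0 // (x : G) ∈ N} := fun x => ⟨φ x.1, hmemN x.1⟩
      have hψ : Function.Surjective ψ := Finite.injective_iff_surjective.mp fun x y e =>
        Subtype.ext (hφ (congrArg Subtype.val e))
      intro y hy
      obtain ⟨x, hx⟩ := hψ ⟨φ ⟨y, hy⟩, hmemN _⟩
      have hxy : (x.1 : G) = y := congrArg Subtype.val (hφ (congrArg Subtype.val hx))
      exact hxy ▸ x.2
    refine eq_top_iff.2 fun g _ => ?_
    obtain ⟨n, hn, hng⟩ := htr g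
    obtain ⟨n', hn', -, hm⟩ := hcov _ hng
    simpa [mul_assoc] using mul_mem hn (mul_mem hn' (hFN hm))
  obtain ⟨y, hy⟩ := c.exists_ne
  let D := frameOf hZ (a := Cfg.x0 t) (b := y) hy.symm (A t)
    ((A_le_M (t := t)).trans Cfg.stab_x0.ge)
    ⟨fun x hx g => by
      have hg : (g : G) ∈ M t := Cfg.smul_x0_iff.1 g.2
      exact c.conj_mem_A hg hx⟩
    (fun p q hp hq => c.A_reg hp hq)
  refine zassenhaus_char_two hZ D (even_iff_two_dvd.2 c.two_dvd_card_A) ?_
  show Odd (Nat.card (TICent.Cfg.P t (Cfg.x0 t) y))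
  rw [(c.base hy).1]
  exact c.h_odd

end Cfsg.Agent.Transfer.MaxSolvTI
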